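import Groth.Agent.Sga3.H665.Act
import Groth.Agent.Sga3.H784.NAMain
import Groth.Agent.Sga3B.MaxTorBc636

/-!
# Maximal tori of group schemes locally of finite type are stable under base change

No affineness, smoothness or finiteness hypothesis on the group is needed: `isMaximalTorus_bc`, `torBc`.
-/

set_option autoImplicit false
universe u

open CategoryTheory CategoryTheory.Limits AlgebraicGeometry MonoidalCategory CartesianMonoidalCategory
  MonObj GrpObj

namespace Groth.Agent.Sga3.H665.TorBcNA

open Act Groth.Agent.Sga3B Groth.Agent.Sga3B.RedIso Groth.Agent.Sga3B.BcNat Groth.Agent.Sga3B.AlgBc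
  Groth.Agent.Sga3B.MaxTorBc636

variable {S S' : Scheme.{u}}

/-- **Maximal tori of a group scheme locally of finite type are stable under base change.** -/
theorem isMaximalTorus_bc (f : S' ⟶ S) {G T : Over S} [GrpObj G] [GrpObj T] [LocallyOfFiniteType G.hom]
    {i : T ⟶ G} (hi : Red.IsMaximalTorus i) : Red.IsMaximalTorus ((Over.pullback f).map i) := by
  have h1 : IsMonHom i := hi.1
  have h2 : Mono i := hi.2.1
  refine ⟨inferInstance, inferInstance, TorusBc.isTorus_bc f hi.2.2.1, fun s' => ?_⟩
  obtain ⟨θ, hθ⟩ := exists_geomPt f s'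
  have h5 : Red.IsMaximalTorus ((Over.pullback (Red.geomPt (f s'))).map i) :=
    isMaximalTorus_iff.2 ⟨inferInstance, inferInstance, TorusBc.isTorus_bc _ hi.2.2.1, hi.2.2.2 (f s')⟩
  have h3 : LocallyOfFiniteType ((Over.pullback (Red.geomPt (f s'))).obj G).hom :=
    MorphismProperty.pullback_snd (P := @LocallyOfFiniteType) _ _ ‹_›
  have h6 := (Groth.Agent.Sga3.H784.NAMain.isMaximalTorus_pullback_iff θ _ h5.1 h5.2.2.1).2 h5
  have h7 := isMaxTorOver_of_arrow (fibIso hθ T).symm (fibIso hθ G).symm (fib_arrow hθ i)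
    (isMaximalTorus_iff.1 h6).2.2.2
  exact h7

/-- `TorBc` holds for all group schemes locally of finite type. -/
theorem torBc (G : Over S) [GrpObj G] [LocallyOfFiniteType G.hom] : TorBc G := by
  intro S₁ S₂ q f H _ h hh
  have : LocallyOfFiniteType (Red.bc f G).hom :=
    MorphismProperty.pullback_snd (P := @LocallyOfFiniteType) _ _ ‹_›
  exact isMaximalTorus_bc q hh

end Groth.Agent.Sga3.H665.TorBcNA
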