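import Groth.Agent.Sga3.H665.Act
import Groth.Agent.Sga3B.RepDescent6

/-!
# Descent of the action of `G` on the scheme of maximal tori to a quotient by a central subgroup

`u : U ⟶ G` a homomorphism, `q : U ⟶ Q` a flat surjective quasi-compact homomorphism whose kernel centralises the
maximal tori of `G`.

* `exists_desc_action` : the action of `U` on `𝒯` comes from an action of `Q`;
* `exists_desc_action_of_central` : the case where the tori of `G` are contained in `U` and `ker q` is central in `U`.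
-/

set_option autoImplicit false
universe u

open CategoryTheory CategoryTheory.Limits AlgebraicGeometry MonoidalCategory CartesianMonoidalCategory
  MonObj GrpObj

namespace Groth.Agent.Sga3.H665.ActDesc

open Act Groth.Agent.Sga3.H784.FlatDesc Groth.Agent.Sga3B.RepDescent

variable {S : Scheme.{u}} {G : Over S} [GrpObj G] {𝒯 : Over S} {Tu : Over 𝒯.left} [GrpObj Tu]
  {iu : Tu ⟶ Red.bc 𝒯.hom G}

instance surjective_whiskerLeft (P : Over S) {X Y : Over S} (f : X ⟶ Y) [Surjective f.left] :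
    Surjective (P ◁ f).left :=
  MorphismProperty.of_isPullback (P := @Surjective) (isPullback_whisker P f).flip ‹_›

instance flat_whiskerLeft (P : Over S) {X Y : Over S} (f : X ⟶ Y) [Flat f.left] : Flat (P ◁ f).left :=
  MorphismProperty.of_isPullback (P := @Flat) (isPullback_whisker P f).flip ‹_›

instance quasiCompact_whiskerLeft (P : Over S) {X Y : Over S} (f : X ⟶ Y) [QuasiCompact f.left] :
    QuasiCompact (P ◁ f).left :=
  MorphismProperty.of_isPullback (P := @QuasiCompact) (isPullback_whisker P f).flip ‹_›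

/-- (c) Descent of the action. -/
theorem exists_desc_action (h𝒯 : SGA3x.RepresentsMaxTori G 𝒯 Tu iu) (hbc : TorBc G) {r : 𝒯 ⊗ G ⟶ 𝒯}
    (hr : IsAct iu r) {U Q : Over S} [GrpObj U] [GrpObj Q] (u : U ⟶ G) [IsMonHom u] (q : U ⟶ Q) [IsMonHom q]
    [Surjective q.left] [Flat q.left] [QuasiCompact q.left]
    (hker : ∀ (X : Over S) (z : X ⟶ U) (v : X ⟶ 𝒯) (g : X ⟶ G), z ≫ q = 1 → InTorus iu v g →
      (z ≫ u) * g = g * (z ≫ u)) :
    ∃ r' : 𝒯 ⊗ Q ⟶ 𝒯, (𝒯 ◁ q) ≫ r' = (𝒯 ◁ u) ≫ r ∧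
      (∀ (Y : Over S) (v : Y ⟶ 𝒯), lift v (1 : Y ⟶ Q) ≫ r' = v) ∧
      ∀ (Y : Over S) (v : Y ⟶ 𝒯) (x y : Y ⟶ Q), lift (lift v x ≫ r') y ≫ r' = lift v (x * y) ≫ r' := by
  have key : ∀ (P : Over S) (v : P ⟶ 𝒯) (x y : P ⟶ U), x ≫ q = y ≫ q →
      lift v (x ≫ u) ≫ r = lift v (y ≫ u) ≫ r := by
    intro P v x y hxy
    refine ext_of_inTorus h𝒯 hbc _ _ fun Z p g => ?_
    have e1 : ∀ w : P ⟶ U, p ≫ lift v (w ≫ u) ≫ r = lift (p ≫ v) (p ≫ w ≫ u) ≫ r := fun w => by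
      rw [← Category.assoc, comp_lift]
    rw [e1, e1, hr.inTorus_iff, hr.inTorus_iff]
    -- `y = x z`
    let z : Z ⟶ U := (p ≫ x)⁻¹ * (p ≫ y)
    have hz : z ≫ q = 1 := by
      rw [MonObj.mul_comp, GrpObj.inv_comp, Category.assoc, Category.assoc, hxy, inv_mul_cancel]
    have hy : p ≫ y ≫ u = (p ≫ x ≫ u) * (z ≫ u) := by
      rw [← Category.assoc p y, ← Category.assoc p x, ← MonObj.mul_comp, mul_inv_cancel_left]
    have e : ∀ (a b g : Z ⟶ G), (a * b) * g * (a * b)⁻¹ = a * (b * g * b⁻¹) * a⁻¹ := fun a b g => by group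
    rw [hy, e]
    constructor
    · intro h
      have h1 := (hr.inTorus_iff Z (p ≫ v) (p ≫ x ≫ u) g).2 h
      have h2 := hker Z z _ g hz h1
      rwa [h2, mul_inv_cancel_right]
    · intro h
      have h1 := (hr.inTorus_iff Z (p ≫ v) (p ≫ x ≫ u) _).2 h
      have h2 := hker Z z _ _ hz h1
      have h3 : (z ≫ u) * g * (z ≫ u)⁻¹ = g := by
        have h4 : (z ≫ u) * ((z ≫ u) * g * (z ≫ u)⁻¹) = (z ≫ u) * g := by
          rw [h2, inv_mul_cancel_right]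
        exact mul_left_cancel h4
      rwa [h3] at h
  have hwl : ∀ {P : Over S} {X Y : Over S} (v : P ⟶ 𝒯) (x : P ⟶ X) (c : X ⟶ Y),
      lift v x ≫ (𝒯 ◁ c) = lift v (x ≫ c) := by
    intro P X Y v x c
    rw [lift_whiskerLeft]
  obtain ⟨r', hr'⟩ := exists_desc (𝒯 ◁ q) ((𝒯 ◁ u) ≫ r) (by
    intro P t t' ht
    have h1 : t = lift (t ≫ fst _ _) (t ≫ snd _ _) := by
      rw [← comp_lift, lift_fst_snd, Category.comp_id]
    have h1' : t' = lift (t' ≫ fst _ _) (t' ≫ snd _ _) := by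
      rw [← comp_lift, lift_fst_snd, Category.comp_id]
    have h2 : t ≫ fst 𝒯 U = t' ≫ fst 𝒯 U := by
      have := congrArg (· ≫ fst 𝒯 Q) ht
      simpa using this
    have h3 : (t ≫ snd 𝒯 U) ≫ q = (t' ≫ snd 𝒯 U) ≫ q := by
      have := congrArg (· ≫ snd 𝒯 Q) ht
      simpa using this
    rw [h1, h1', ← Category.assoc, ← Category.assoc, hwl, hwl, ← h2]
    exact key P _ _ _ h3)
  have hlift : ∀ {P : Over S} (v : P ⟶ 𝒯) (x : P ⟶ U), lift v (x ≫ q) ≫ r' = lift v (x ≫ u) ≫ r := by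
    intro P v x
    rw [← hwl, ← hwl, Category.assoc, hr', Category.assoc]
  refine ⟨r', hr', fun Y v => ?_, fun Y v x y => ?_⟩
  · have h1 : (1 : Y ⟶ Q) = (1 : Y ⟶ U) ≫ q := (MonObj.one_comp q).symm
    rw [h1, hlift, MonObj.one_comp, hr.act_one]
  · obtain ⟨Y₁, c₁, x₁, _, _, _, hc₁, hx₁⟩ := exists_lift_cover q x
    obtain ⟨Y₂, c₂, y₂, _, _, _, hc₂, hy₂⟩ := exists_lift_cover q (c₁ ≫ y)
    rw [← cancel_epi c₁, ← cancel_epi c₂]
    have h1 : c₂ ≫ c₁ ≫ x = (c₂ ≫ x₁) ≫ q := by rw [hx₁, Category.assoc]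
    have h2 : c₂ ≫ c₁ ≫ y = y₂ ≫ q := hy₂
    have e1 : c₂ ≫ c₁ ≫ lift (lift v x ≫ r') y ≫ r' =
        lift (lift (c₂ ≫ c₁ ≫ v) (c₂ ≫ c₁ ≫ x) ≫ r') (c₂ ≫ c₁ ≫ y) ≫ r' := by
      simp only [← Category.assoc, comp_lift]
    have e2 : c₂ ≫ c₁ ≫ lift v (x * y) ≫ r' =
        lift (c₂ ≫ c₁ ≫ v) ((c₂ ≫ c₁ ≫ x) * (c₂ ≫ c₁ ≫ y)) ≫ r' := by
      simp only [← Category.assoc, comp_lift, MonObj.comp_mul]
    rw [e1, e2, h1, h2, hlift, hlift, hr.act_mul, ← MonObj.mul_comp (c₂ ≫ x₁) y₂ q, hlift, MonObj.mul_comp]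

/-- Descent of the action, when the tori are contained in `U`. -/
theorem exists_desc_action_of_central (h𝒯 : SGA3x.RepresentsMaxTori G 𝒯 Tu iu) (hbc : TorBc G)
    {r : 𝒯 ⊗ G ⟶ 𝒯} (hr : IsAct iu r) {U Q : Over S} [GrpObj U] [GrpObj Q] (u : U ⟶ G) [IsMonHom u]
    (q : U ⟶ Q) [IsMonHom q] [Surjective q.left] [Flat q.left] [QuasiCompact q.left]
    (hU : ∀ (Y : Over S) (v : Y ⟶ 𝒯) (g : Y ⟶ G), InTorus iu v g → ∃ g' : Y ⟶ U, g' ≫ u = g)
    (hker : ∀ (X : Over S) (z g : X ⟶ U), z ≫ q = 1 → z * g = g * z) :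
    ∃ r' : 𝒯 ⊗ Q ⟶ 𝒯, (𝒯 ◁ q) ≫ r' = (𝒯 ◁ u) ≫ r ∧
      (∀ (Y : Over S) (v : Y ⟶ 𝒯), lift v (1 : Y ⟶ Q) ≫ r' = v) ∧
      ∀ (Y : Over S) (v : Y ⟶ 𝒯) (x y : Y ⟶ Q), lift (lift v x ≫ r') y ≫ r' = lift v (x * y) ≫ r' := by
  refine exists_desc_action h𝒯 hbc hr u q fun X z v g hz hg => ?_
  obtain ⟨g', rfl⟩ := hU X v g hg
  rw [← MonObj.mul_comp, hker X z g' hz, MonObj.mul_comp]

end Groth.Agent.Sga3.H665.ActDesc
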