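import Groth.Agent.Sga3.H665.ActDesc
import Groth.Agent.Sga3.H778.NeutralOpen
import Groth.Agent.Sga3B.TorusIrr
import Groth.Agent.Sga3B.BcPts
import Groth.Agent.Books.AlgPts

/-!
# Tori lie in the neutral component

* `isConnected_fibre_of_isTorus`: the fibres of a torus are connected;
* `mem_neutralSet_of_isTorus`: subtori of the base changes of `G` lie in the neutral component of `G`;
* `exists_lift_neutral`: points of maximal tori factor through an open subgroup `u : U ⟶ G` containing the
  neutral component, in particular through `H778.NeutralOpen.opnι G (neutral G h)`;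
* `exists_desc_action`: descent of the action on `𝒯` to `Q`, `q : G⁰ ⟶ Q` with central kernel.
-/

set_option autoImplicit false
universe u

open CategoryTheory CategoryTheory.Limits AlgebraicGeometry MonoidalCategory CartesianMonoidalCategory
  MonObj GrpObj

namespace Groth.Agent.Sga3.H665.ActNeutral

open Act Groth.Agent.Sga3.H778.NeutralPts Groth.Agent.Sga3.H778.NeutralOpen Groth.Agent.Sga3B
  Groth.Agent.Sga3B.BcPts

variable {S S' : Scheme.{u}}

lemma isConnected_fibre {X S : Scheme.{u}} (f : X ⟶ S) [GeometricallyIrreducible f] (s : S) :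
    _root_.IsConnected (f ⁻¹' {s}) := by
  have h1 : GeometricallyIrreducible (pullback.snd f (S.fromSpecResidueField s)) :=
    MorphismProperty.pullback_snd (P := @GeometricallyIrreducible) _ _ inferInstance
  have h2 : IrreducibleSpace ↥(pullback f (S.fromSpecResidueField s)) :=
    GeometricallyIrreducible.irreducibleSpace_of_subsingleton (pullback.snd f (S.fromSpecResidueField s))
  have : IrreducibleSpace ↥(f.fiber s) := h2
  have h : ConnectedSpace ↥(f ⁻¹' {s}) := (f.fiberHomeo s).surjective.connectedSpace (f.fiberHomeo s).continuous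
  exact isConnected_iff_connectedSpace.mpr h

/-- The fibres of a torus are connected. -/
lemma isConnected_fibre_of_isTorus {T : Over S} [GrpObj T] (h : Red.IsTorus T) (s : S) :
    _root_.IsConnected (T.hom ⁻¹' {s}) := by
  have := TorusIrr.geometricallyIrreducible_of_isTorus h
  exact isConnected_fibre T.hom s

lemma bcEquiv_symm_left (q : S' ⟶ S) {T : Over S'} {X : Over S} (y : T ⟶ Red.bc q X) :
    ((bcEquiv q T X).symm y).left = y.left ≫ pullback.fst X.hom q := by
  rw [bcEquiv, Adjunction.homEquiv_counit, Over.mapPullbackAdj_counit_app, Over.comp_left]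
  rfl

/-- The unit section of a base change. -/
lemma unit_bc (q : S' ⟶ S) (G : Over S) [GrpObj G] :
    unitSec (Red.bc q G) ≫ pullback.fst G.hom q = q ≫ unitSec G := by
  have h1 : (bcMulEquiv q (𝟙_ _) G).symm η[Red.bc q G] = 1 := by
    rw [one_eq_one, map_one]
  have h2 := bcEquiv_symm_left q η[Red.bc q G]
  rw [unitSec, ← h2]
  have h3 : (1 : (Over.map q).obj (𝟙_ (Over S')) ⟶ G) = toUnit _ ≫ η[G] := rfl
  have h4 : (bcEquiv q (𝟙_ _) G).symm η[Red.bc q G] = toUnit _ ≫ η[G] := h1.trans h3
  rw [h4, Over.comp_left]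
  congr 1

/-- The neutral set commutes with base change. -/
theorem preimage_neutralSet (q : S' ⟶ S) (G : Over S) [GrpObj G] :
    pullback.fst G.hom q ⁻¹' SGA3x.neutralSet G = SGA3x.neutralSet (Red.bc q G) := by
  rw [neutralSet_eq, neutralSet_eq]
  exact (Groth.Agent.Flat2D.RatPointConn.sectionComponents_baseChange G.hom (unitSec G) (unitSec_hom G)
    (Red.bc q G).hom (pullback.fst G.hom q) q (IsPullback.of_hasPullback _ _) (unitSec (Red.bc q G))
    (unitSec_hom _) (unit_bc q G)).symm

/-- A homomorphism from a group scheme with connected fibres has its image in the neutral set. -/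
theorem mem_neutralSet_of_connected (T N : Over S) [GrpObj T] [GrpObj N]
    (hconn : ∀ s : S, _root_.IsConnected (T.hom ⁻¹' {s})) (v : T ⟶ N) [IsMonHom v] (x : T.left) :
    v.left x ∈ SGA3x.neutralSet N := by
  rw [neutralSet_eq]
  change _ ∈ connectedComponentIn _ _
  have hvx : ∀ y : T.left, N.hom (v.left y) = T.hom y := fun y => by
    rw [← Scheme.Hom.comp_apply, Over.w v]
  have hunit : v.left (unitSec T (T.hom x)) = unitSec N (T.hom x) := by
    rw [← Scheme.Hom.comp_apply]
    have h1 : η[T] ≫ v = η[N] := IsMonHom.one_hom v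
    have h2 : unitSec T ≫ v.left = unitSec N := congrArg (fun f => f.left) h1
    rw [h2]
  rw [hvx]
  have h1 : _root_.IsPreconnected (v.left '' (T.hom ⁻¹' {T.hom x})) :=
    (hconn (T.hom x)).2.image _ v.left.continuous.continuousOn
  refine h1.subset_connectedComponentIn ?_ ?_ ⟨x, rfl, rfl⟩
  · exact ⟨unitSec T (T.hom x), hom_unitSec T _, hunit⟩
  · rintro _ ⟨y, hy, rfl⟩
    change N.hom (v.left y) = T.hom x
    rw [hvx]
    exact hy

/-- Subtori of the base changes of `G` lie in the neutral component of `G`. -/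
theorem mem_neutralSet_of_isTorus {G : Over S} [GrpObj G] {f : S' ⟶ S} {T : Over S'} [GrpObj T]
    (hT : Red.IsTorus T) (h : T ⟶ Red.bc f G) [IsMonHom h] (x : T.left) :
    (h.left ≫ pullback.fst G.hom f) x ∈ SGA3x.neutralSet G := by
  have h1 := mem_neutralSet_of_connected T (Red.bc f G) (isConnected_fibre_of_isTorus hT) h x
  rw [← preimage_neutralSet] at h1
  rw [Scheme.Hom.comp_apply]
  exact h1

variable {G : Over S} [GrpObj G] {𝒯 : Over S} {Tu : Over 𝒯.left} [GrpObj Tu] {iu : Tu ⟶ Red.bc 𝒯.hom G}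

theorem mem_neutralSet_of_inTorus (h𝒯 : SGA3x.RepresentsMaxTori G 𝒯 Tu iu) {Y : Over S} (v : Y ⟶ 𝒯)
    (g : Y ⟶ G) (hg : InTorus iu v g) (y : Y.left) : g.left y ∈ SGA3x.neutralSet G := by
  obtain ⟨t, -, h2⟩ := hg
  have := h𝒯.1.1
  rw [← h2, Scheme.Hom.comp_apply]
  exact mem_neutralSet_of_isTorus h𝒯.1.2.2.1 iu (t y)

/-- Points of maximal tori factor through open subschemes containing the neutral component. -/
theorem exists_lift_of_open (h𝒯 : SGA3x.RepresentsMaxTori G 𝒯 Tu iu) {U : Over S} (u : U ⟶ G)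
    [IsOpenImmersion u.left] (hu : SGA3x.neutralSet G ⊆ Set.range u.left) {Y : Over S} (v : Y ⟶ 𝒯)
    (g : Y ⟶ G) (hg : InTorus iu v g) : ∃ g' : Y ⟶ U, g' ≫ u = g := by
  have hr : Set.range g.left ⊆ Set.range u.left := by
    rintro _ ⟨t, rfl⟩
    exact hu (mem_neutralSet_of_inTorus h𝒯 v g hg t)
  let k : Y.left ⟶ U.left := IsOpenImmersion.lift u.left g.left hr
  have hk : k ≫ u.left = g.left := IsOpenImmersion.lift_fac _ _ _
  refine ⟨Over.homMk k ?_, ?_⟩
  · rw [← Over.w u, reassoc_of% hk]
    exact Over.w g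
  · ext1
    exact hk

/-- Points of maximal tori factor through the neutral component. -/
theorem exists_lift_neutral (h𝒯 : SGA3x.RepresentsMaxTori G 𝒯 Tu iu) (hopen : IsOpen (SGA3x.neutralSet G))
    {Y : Over S} (v : Y ⟶ 𝒯) (g : Y ⟶ G) (hg : InTorus iu v g) :
    ∃ g' : Y ⟶ opn G (neutral G hopen), g' ≫ opnι G (neutral G hopen) = g :=
  exists_lift (neutral G hopen) g fun t => mem_neutralSet_of_inTorus h𝒯 v g hg t

/-- Over a field, the neutral set is the connected component of the unit point. -/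
lemma neutralSet_subset {k : Type u} [Field k] (G : Over (Spec (CommRingCat.of k))) [GrpObj G] :
    SGA3x.neutralSet G ⊆ connectedComponent (Books.AlgPts.pt η[G]) := by
  intro x hx
  simp only [SGA3x.neutralSet, Set.mem_iUnion] at hx
  obtain ⟨p, hp⟩ := hx
  have hsub : Subsingleton (Spec (CommRingCat.of k)) := inferInstanceAs (Subsingleton (PrimeSpectrum k))
  have h1 : p = (IsLocalRing.closedPoint k : Spec (CommRingCat.of k)) :=
    @Subsingleton.elim (Spec (CommRingCat.of k)) hsub _ _
  have h2 : Books.AlgPts.pt η[G] = η[G].left p := by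
    rw [h1]
    rfl
  rw [h2]
  exact (isPreconnected_connectedComponentIn.subset_connectedComponent (mem_connectedComponentIn (by
    have h3 := connectedComponentIn_subset _ _ hp
    exact @Subsingleton.elim (Spec (CommRingCat.of k)) hsub _ _))) hp

/-- Over a field: points of maximal tori factor through the open neutral component. -/
theorem exists_lift_of_connectedComponent {k : Type u} [Field k] {G : Over (Spec (CommRingCat.of k))} [GrpObj G]
    {𝒯 : Over (Spec (CommRingCat.of k))} {Tu : Over 𝒯.left} [GrpObj Tu] {iu : Tu ⟶ Red.bc 𝒯.hom G}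
    (h𝒯 : SGA3x.RepresentsMaxTori G 𝒯 Tu iu) {U : Over (Spec (CommRingCat.of k))} (u : U ⟶ G)
    [IsOpenImmersion u.left] (hu : connectedComponent (Books.AlgPts.pt η[G]) ⊆ Set.range u.left)
    (Y : Over (Spec (CommRingCat.of k))) (v : Y ⟶ 𝒯) (g : Y ⟶ G) (hg : InTorus iu v g) :
    ∃ g' : Y ⟶ U, g' ≫ u = g :=
  exists_lift_of_open h𝒯 u ((neutralSet_subset G).trans hu) v g hg

/-- Descent of the action on the scheme of maximal tori to a quotient of the neutral component by a central
subgroup. -/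
theorem exists_desc_action (h𝒯 : SGA3x.RepresentsMaxTori G 𝒯 Tu iu) (hbc : TorBc G)
    {r : 𝒯 ⊗ G ⟶ 𝒯} (hr : IsAct iu r) {U Q : Over S} [GrpObj U] [GrpObj Q] (u : U ⟶ G) [IsMonHom u]
    [IsOpenImmersion u.left] (hu : SGA3x.neutralSet G ⊆ Set.range u.left)
    (q : U ⟶ Q) [IsMonHom q] [Surjective q.left] [Flat q.left] [QuasiCompact q.left]
    (hker : ∀ (X : Over S) (z g : X ⟶ U), z ≫ q = 1 → z * g = g * z) :
    ∃ r' : 𝒯 ⊗ Q ⟶ 𝒯, (𝒯 ◁ q) ≫ r' = (𝒯 ◁ u) ≫ r ∧
      (∀ (Y : Over S) (v : Y ⟶ 𝒯), lift v (1 : Y ⟶ Q) ≫ r' = v) ∧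
      ∀ (Y : Over S) (v : Y ⟶ 𝒯) (x y : Y ⟶ Q), lift (lift v x ≫ r') y ≫ r' = lift v (x * y) ≫ r' :=
  ActDesc.exists_desc_action_of_central h𝒯 hbc hr u q (fun _ v g hg => exists_lift_of_open h𝒯 u hu v g hg) hker

end Groth.Agent.Sga3.H665.ActNeutral
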