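import Groth.Agent.RedSub.H647.SubPt
import Groth.Agent.RedSub.H647.SubF
import Groth.Agent.Sga3B.MT.MemOps
import Groth.Agent.Sga3.H784.FlatDesc
import Groth.Prelude.Def_SGA3x

/-!
# The group acts on the scheme of maximal tori

`S` any scheme, `G` an `S`-group such that maximal tori of its base changes are stable under base change (`TorBc G`),
`(𝒯, Tu, iu)` representing the functor of maximal tori of `G`.

* `InTorus iu v g`: the point `g` of `G` lies in the maximal torus given by the point `v` of `𝒯`;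
* `existsUnique_point`: `SGA3x.RepresentsMaxTori` in terms of points;
* `ext_of_inTorus`: a point of `𝒯` is determined by the points in its torus;
* `exists_action`: the right action `v · x = x⁻¹ v x` of `G` on `𝒯`;
* `exists_iso`: uniqueness of `𝒯`.
-/

set_option autoImplicit false
universe u

open CategoryTheory CategoryTheory.Limits AlgebraicGeometry MonoidalCategory CartesianMonoidalCategory
  MonObj GrpObj

namespace Groth.Agent.Sga3.H665.Act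

open Groth.Agent.RedSub.H647.SubPt Groth.Agent.RedSub.H647.SubF Groth.Agent.Sga3B Groth.Agent.Sga3B.MT
  Groth.Agent.Sga3B.BcPts

variable {S : Scheme.{u}} {G : Over S}

/-- The point `g` of `G` lies in the torus given by the point `v` of `𝒯`. -/
def InTorus {S : Scheme.{u}} {G 𝒯 : Over S} {Tu : Over 𝒯.left} (iu : Tu ⟶ Red.bc 𝒯.hom G) {Y : Over S}
    (v : Y ⟶ 𝒯) (g : Y ⟶ G) : Prop :=
  ∃ t : Y.left ⟶ Tu.left, t ≫ Tu.hom = v.left ∧ t ≫ iu.left ≫ pullback.fst G.hom 𝒯.hom = g.left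

lemma inTorus_iff_pt {𝒯 : Over S} {Tu : Over 𝒯.left} (iu : Tu ⟶ Red.bc 𝒯.hom G) {Y : Over S}
    (v : Y ⟶ 𝒯) (g : Y ⟶ G) : InTorus iu v g ↔ Pt iu v.left g.left := Iff.rfl

lemma InTorus.comp {𝒯 : Over S} {Tu : Over 𝒯.left} {iu : Tu ⟶ Red.bc 𝒯.hom G} {Y Y' : Over S}
    {v : Y ⟶ 𝒯} {g : Y ⟶ G} (h : InTorus iu v g) (p : Y' ⟶ Y) : InTorus iu (p ≫ v) (p ≫ g) := by
  rw [inTorus_iff_pt] at h ⊢
  exact h.comp p.left

/-- Stability of the maximal tori of the base changes of `G` under base change. -/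
def TorBc (G : Over S) [GrpObj G] : Prop :=
  ∀ {S' S'' : Scheme.{u}} (q : S'' ⟶ S') {f : S' ⟶ S} {H : Over S'} [GrpObj H]
    {h : H ⟶ Red.bc f G}, Red.IsMaximalTorus h → Red.IsMaximalTorus ((Over.pullback q).map h)

variable [GrpObj G]

lemma bcSub_eq {S' S'' : Scheme.{u}} (q : S'' ⟶ S') {f : S' ⟶ S} {H : Over S'} (h : H ⟶ Red.bc f G) :
    bcSub q h = (Over.pullback q).map h ≫ (BcIso.bcCompIso q f G).symm.hom.hom.hom := by
  have e : (RedIso.und (BcIso.bcCompIso q f G).symm).hom = (Over.pullbackComp q f).inv.app G := by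
    have h1 := BcNat.und_bcCompIso q f G
    have h2 : (RedIso.und (BcIso.bcCompIso q f G).symm).hom ≫
        (RedIso.und (BcIso.bcCompIso q f G)).hom = 𝟙 _ := by
      rw [BcNat.und_symm, Iso.inv_hom_id]
    rw [h1] at h2
    have h3 : (Over.pullbackComp q f).inv.app G ≫ (Over.pullbackComp q f).hom.app G = 𝟙 _ := by
      simp
    exact (cancel_mono ((Over.pullbackComp q f).hom.app G)).1 (h2.trans h3.symm)
  rw [bcSub, ← e]
  rfl

lemma isMaximalTorus_bcSub (hbc : TorBc G) {S' S'' : Scheme.{u}} (q : S'' ⟶ S') {f : S' ⟶ S}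
    {H : Over S'} [GrpObj H] {h : H ⟶ Red.bc f G} (hh : Red.IsMaximalTorus h) :
    Red.IsMaximalTorus (bcSub q h) := by
  rw [bcSub_eq]
  exact AlgBc.isMaximalTorus_of_arrow (Iso.refl _) (BcIso.bcCompIso q f G).symm
    (Category.id_comp _).symm (hbc q hh)

variable {𝒯 : Over S} {Tu : Over 𝒯.left} [GrpObj Tu] {iu : Tu ⟶ Red.bc 𝒯.hom G}

/-- `SGA3x.RepresentsMaxTori` in terms of points. -/
theorem existsUnique_point (h𝒯 : SGA3x.RepresentsMaxTori G 𝒯 Tu iu) {S' : Scheme.{u}} (f : S' ⟶ S)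
    (T' : Over S') [GrpObj T'] (i' : T' ⟶ Red.bc f G) (hi' : Red.IsMaximalTorus i') :
    ∃! v : S' ⟶ 𝒯.left, v ≫ 𝒯.hom = f ∧
      ∀ (X : Scheme.{u}) (y : X ⟶ S') (γ : X ⟶ G.left), Pt i' y γ ↔ Pt iu (y ≫ v) γ := by
  have hmono : Mono iu := h𝒯.1.2.1
  have hmono' : Mono i' := hi'.2.1
  have key : ∀ v : S' ⟶ 𝒯.left, (v ≫ 𝒯.hom = f ∧
      ∃ φ : T'.left ≅ (Red.bc v Tu).left,
        φ.hom ≫ (Red.bc v Tu).hom = T'.hom ∧
        φ.hom ≫ ((Over.pullback v).map iu).left ≫ pullback.fst (Red.bc 𝒯.hom G).hom v ≫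
          pullback.fst G.hom 𝒯.hom = i'.left ≫ pullback.fst G.hom f) ↔
      (v ≫ 𝒯.hom = f ∧
        ∀ (X : Scheme.{u}) (y : X ⟶ S') (γ : X ⟶ G.left), Pt i' y γ ↔ Pt iu (y ≫ v) γ) := by
    intro v
    refine and_congr_right fun hv => ?_
    subst hv
    have hfst : (bcSub v iu).left ≫ pullback.fst G.hom (v ≫ 𝒯.hom) =
        ((Over.pullback v).map iu).left ≫ pullback.fst (Red.bc 𝒯.hom G).hom v ≫
          pullback.fst G.hom 𝒯.hom := by
      rw [bcSub_fst]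
      have h2 : ((Over.pullback v).map iu).left ≫ pullback.fst (pullback.snd G.hom 𝒯.hom) v =
        pullback.fst Tu.hom v ≫ iu.left := (Parab.EtHom.isPullback_map v iu).w.symm
      rw [← Category.assoc, ← h2, Category.assoc]
      rfl
    constructor
    · rintro ⟨φ, h1, h2⟩ X y γ
      rw [← pt_bcSub]
      constructor
      · rintro ⟨p, hp1, hp2⟩
        refine ⟨p ≫ φ.hom, ?_, ?_⟩
        · rw [Category.assoc, h1, hp1]
        · rw [hfst, Category.assoc, h2, hp2]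
      · rintro ⟨p, hp1, hp2⟩
        refine ⟨p ≫ φ.inv, ?_, ?_⟩
        · rw [← h1, Category.assoc, Iso.inv_hom_id_assoc, hp1]
        · rw [← h2, ← hfst, Category.assoc, Iso.inv_hom_id_assoc, hp2]
    · intro h
      have hm : Mono (bcSub v iu) := by
        rw [bcSub_eq]
        have h1 : Mono ((Over.pullback v).map iu) := inferInstance
        have h2 : IsIso (BcIso.bcCompIso v 𝒯.hom G).symm.hom.hom.hom :=
          inferInstanceAs (IsIso (RedIso.und (BcIso.bcCompIso v 𝒯.hom G).symm).hom)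
        infer_instance
      obtain ⟨i, hi⟩ := exists_iso_of_pt i' (bcSub v iu) fun X y γ => by rw [pt_bcSub, h]
      refine ⟨(Over.forget _).mapIso i, Over.w i.hom, ?_⟩
      rw [← hfst, ← hi]
      exact (Category.assoc _ _ _).symm
  obtain ⟨v, hv, huniq⟩ := h𝒯.2 S' f T' i' hi'
  exact ⟨v, (key v).1 hv, fun w hw => huniq w ((key w).2 hw)⟩

/-- Points of `𝒯` are equal if they define the same torus. -/
theorem ext_of_pt (h𝒯 : SGA3x.RepresentsMaxTori G 𝒯 Tu iu) (hbc : TorBc G) {X : Over S} (v w : X ⟶ 𝒯)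
    (h : ∀ (Y : Scheme.{u}) (y : Y ⟶ X.left) (γ : Y ⟶ G.left), Pt iu (y ≫ v.left) γ ↔ Pt iu (y ≫ w.left) γ) :
    v = w := by
  obtain ⟨z, -, hz⟩ := existsUnique_point h𝒯 (v.left ≫ 𝒯.hom) (Red.bc v.left Tu) (bcSub v.left iu)
    (isMaximalTorus_bcSub hbc v.left h𝒯.1)
  ext1
  rw [hz v.left ⟨rfl, fun Y y γ => pt_bcSub _ _ _ _⟩]
  symm
  refine hz w.left ⟨(Over.w w).trans (Over.w v).symm, fun Y y γ => ?_⟩
  rw [pt_bcSub]
  exact h Y y γ

/-- (a) A point of `𝒯` is determined by the points in its torus. -/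
theorem ext_of_inTorus (h𝒯 : SGA3x.RepresentsMaxTori G 𝒯 Tu iu) (hbc : TorBc G) {X : Over S}
    (v w : X ⟶ 𝒯)
    (h : ∀ (Y : Over S) (p : Y ⟶ X) (g : Y ⟶ G), InTorus iu (p ≫ v) g ↔ InTorus iu (p ≫ w) g) :
    v = w := by
  refine ext_of_pt h𝒯 hbc v w fun Y y γ => ?_
  by_cases hw : y ≫ X.hom = γ ≫ G.hom
  · exact h (Over.mk (γ ≫ G.hom)) (Over.homMk y hw) (Over.homMk γ rfl)
  · constructor
    · intro h1
      refine (hw ?_).elim
      rw [← h1.w, Category.assoc, Over.w v]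
    · intro h1
      refine (hw ?_).elim
      rw [← h1.w, Category.assoc, Over.w w]

/-- (b) The right action of `G` on the scheme of maximal tori. -/
theorem exists_action (h𝒯 : SGA3x.RepresentsMaxTori G 𝒯 Tu iu) (hbc : TorBc G) :
    ∃ r : 𝒯 ⊗ G ⟶ 𝒯, ∀ (Y : Over S) (v : Y ⟶ 𝒯) (x g : Y ⟶ G),
      InTorus iu (lift v x ≫ r) g ↔ InTorus iu v (x * g * x⁻¹) := by
  let v₀ : 𝒯 ⊗ G ⟶ 𝒯 := fst 𝒯 G
  let x₀ : Over.mk (v₀.left ≫ 𝒯.hom) ⟶ G := Over.homMk (snd 𝒯 G).left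
    ((Over.w (snd 𝒯 G)).trans (Over.w (fst 𝒯 G)).symm)
  have hi : Red.IsMaximalTorus (bcSub v₀.left iu ≫ cj x₀⁻¹) :=
    isMaximalTorus_comp_cj x₀⁻¹ _ (isMaximalTorus_bcSub hbc v₀.left h𝒯.1)
  obtain ⟨r₀, ⟨hr1, hr2⟩, -⟩ := existsUnique_point h𝒯 _ _ _ hi
  refine ⟨Over.homMk r₀ (hr1.trans (Over.w v₀)), fun Y v x g => ?_⟩
  rw [inTorus_iff_pt, inTorus_iff_pt]
  have e1 : (lift v x ≫ (Over.homMk r₀ (hr1.trans (Over.w v₀)) : 𝒯 ⊗ G ⟶ 𝒯)).left =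
      (lift v x).left ≫ r₀ := rfl
  rw [e1, ← hr2]
  let a : Y ⟶ Over.mk (v₀.left ≫ 𝒯.hom) := Over.homMk (lift v x).left (by
    change _ ≫ v₀.left ≫ 𝒯.hom = _
    rw [Over.w v₀]
    exact Over.w (lift v x))
  have h1 := memAt_iff_pt (bcSub v₀.left iu ≫ cj x₀⁻¹) a g
  have h2 : (lift v x).left = a.left := rfl
  rw [h2, ← h1, memAt_comp_cj, memAt_iff_pt, pt_bcSub]
  have h3 : a ≫ x₀ = x := by
    ext1
    change (lift v x).left ≫ (snd 𝒯 G).left = x.left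
    rw [← Over.comp_left, lift_snd]
  have h4 : a.left ≫ v₀.left = v.left := by
    change (lift v x).left ≫ (fst 𝒯 G).left = v.left
    rw [← Over.comp_left, lift_fst]
  rw [h4, GrpObj.comp_inv, h3, _root_.inv_inv]

/-- The right action of `G` on `𝒯`: characterisation and axioms. -/
structure IsAct (iu : Tu ⟶ Red.bc 𝒯.hom G) (r : 𝒯 ⊗ G ⟶ 𝒯) : Prop where
  inTorus_iff : ∀ (Y : Over S) (v : Y ⟶ 𝒯) (x g : Y ⟶ G),
    InTorus iu (lift v x ≫ r) g ↔ InTorus iu v (x * g * x⁻¹)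
  act_one : ∀ (Y : Over S) (v : Y ⟶ 𝒯), lift v (1 : Y ⟶ G) ≫ r = v
  act_mul : ∀ (Y : Over S) (v : Y ⟶ 𝒯) (x y : Y ⟶ G), lift (lift v x ≫ r) y ≫ r = lift v (x * y) ≫ r

theorem isAct_of_inTorus_iff (h𝒯 : SGA3x.RepresentsMaxTori G 𝒯 Tu iu) (hbc : TorBc G)
    {r : 𝒯 ⊗ G ⟶ 𝒯} (hr : ∀ (Y : Over S) (v : Y ⟶ 𝒯) (x g : Y ⟶ G),
      InTorus iu (lift v x ≫ r) g ↔ InTorus iu v (x * g * x⁻¹)) : IsAct iu r where
  inTorus_iff := hr
  act_one Y v := by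
    refine ext_of_inTorus h𝒯 hbc _ _ fun Z p g => ?_
    rw [← Category.assoc, comp_lift, hr, MonObj.comp_one, _root_.one_mul, _root_.inv_one, _root_.mul_one]
  act_mul Y v x y := by
    refine ext_of_inTorus h𝒯 hbc _ _ fun Z p g => ?_
    rw [← Category.assoc, comp_lift, hr, ← Category.assoc, comp_lift, hr, ← Category.assoc, comp_lift, hr,
      MonObj.comp_mul, _root_.mul_inv_rev]
    simp only [_root_.mul_assoc]

/-- The right action of `G` on `𝒯`. -/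
theorem exists_isAct (h𝒯 : SGA3x.RepresentsMaxTori G 𝒯 Tu iu) (hbc : TorBc G) :
    ∃ r : 𝒯 ⊗ G ⟶ 𝒯, IsAct iu r := by
  obtain ⟨r, hr⟩ := exists_action h𝒯 hbc
  exact ⟨r, isAct_of_inTorus_iff h𝒯 hbc hr⟩

/-- (d) Uniqueness of the scheme of maximal tori. -/
theorem exists_iso (h𝒯 : SGA3x.RepresentsMaxTori G 𝒯 Tu iu) (hbc : TorBc G)
    {𝒯' : Over S} {Tu' : Over 𝒯'.left} [GrpObj Tu'] {iu' : Tu' ⟶ Red.bc 𝒯'.hom G}
    (h𝒯' : SGA3x.RepresentsMaxTori G 𝒯' Tu' iu') :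
    ∃ e : 𝒯 ≅ 𝒯', (∀ (Y : Over S) (v : Y ⟶ 𝒯) (g : Y ⟶ G), InTorus iu' (v ≫ e.hom) g ↔ InTorus iu v g) ∧
      ∀ (Y : Over S) (v : Y ⟶ 𝒯') (g : Y ⟶ G), InTorus iu (v ≫ e.inv) g ↔ InTorus iu' v g := by
  have key : ∀ {𝒯 : Over S} {Tu : Over 𝒯.left} [GrpObj Tu] {iu : Tu ⟶ Red.bc 𝒯.hom G}
      (_ : SGA3x.RepresentsMaxTori G 𝒯 Tu iu) {𝒯' : Over S} {Tu' : Over 𝒯'.left} [GrpObj Tu']
      {iu' : Tu' ⟶ Red.bc 𝒯'.hom G} (_ : SGA3x.RepresentsMaxTori G 𝒯' Tu' iu'),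
      ∃ e : 𝒯 ⟶ 𝒯', ∀ (Y : Over S) (v : Y ⟶ 𝒯) (g : Y ⟶ G), InTorus iu' (v ≫ e) g ↔ InTorus iu v g := by
    intro 𝒯 Tu _ iu h𝒯 𝒯' Tu' _ iu' h𝒯'
    obtain ⟨e₀, ⟨h1, h2⟩, -⟩ := existsUnique_point h𝒯' 𝒯.hom Tu iu h𝒯.1
    refine ⟨Over.homMk e₀ h1, fun Y v g => ?_⟩
    rw [inTorus_iff_pt, inTorus_iff_pt]
    exact (h2 _ _ _).symm
  obtain ⟨e, he⟩ := key h𝒯 h𝒯'
  obtain ⟨e', he'⟩ := key h𝒯' h𝒯
  refine ⟨⟨e, e', ?_, ?_⟩, he, he'⟩
  · refine ext_of_inTorus h𝒯 hbc _ _ fun Z p g => ?_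
    rw [← Category.assoc, he', he, Category.comp_id]
  · refine ext_of_inTorus h𝒯' hbc _ _ fun Z p g => ?_
    rw [← Category.assoc, he, he', Category.comp_id]

end Groth.Agent.Sga3.H665.Act
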